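import Groth.Agent.KumFamPS.Inverse
import Mathlib.RingTheory.MvPowerSeries.Inverse
import Mathlib.Algebra.CharP.Two
import Mathlib.Tactic.LinearCombination

/-! Automorphisms of power series rings used for the normal forms. -/

namespace KumFamPSLib

open MvPowerSeries

universe u v

variable {σ : Type v} [Finite σ] {R : Type u} [CommRing R]

/-- `X i ↦ X i * U i`, with `U i` having unit constant coefficient, is an automorphism. -/
theorem exists_algEquiv_X_mul (U : σ → MvPowerSeries σ R)
    (hU : ∀ i, IsUnit (constantCoeff (U i))) :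
    ∃ φ : MvPowerSeries σ R ≃ₐ[R] MvPowerSeries σ R, ∀ i, φ (X i) = X i * U i := by
  choose u hu using hU
  let N : σ → MvPowerSeries σ R := fun i => X i * (C ((u i)⁻¹ : Rˣ).val * U i - 1)
  have hN : ∀ i, 2 ≤ (N i).order := fun i => by
    refine le_trans ?_ le_order_mul
    have h1 : 1 ≤ (X i : MvPowerSeries σ R).order := by
      simp [one_le_order_iff_constCoeff_eq_zero]
    have h2 : 1 ≤ (C ((u i)⁻¹ : Rˣ).val * U i - 1).order := by
      simp [one_le_order_iff_constCoeff_eq_zero, ← hu i]
    exact le_trans (by norm_num) (add_le_add h1 h2)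
  obtain ⟨ψ, hψ⟩ := exists_algEquiv_X_add N hN
  have sN := hasSubst_of_constantCoeff_zero (constantCoeff_X_add hN)
  let a : σ → R := fun i => (u i : R)
  let a' : σ → R := fun i => ((u i)⁻¹ : Rˣ)
  let sc : MvPowerSeries σ R ≃ₐ[R] MvPowerSeries σ R := AlgEquiv.ofAlgHom (rescaleAlgHom a)
    (rescaleAlgHom a') (AlgHom.ext fun f => by
      simp [rescaleAlgHom_apply, rescale_rescale, a, a', Pi.mul_def, show (fun _ : σ => (1 : R)) = 1 from rfl, rescale_one]) (AlgHom.ext fun f => by
      simp [rescaleAlgHom_apply, rescale_rescale, a, a', Pi.mul_def, show (fun _ : σ => (1 : R)) = 1 from rfl, rescale_one])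
  refine ⟨sc.trans ψ, fun i => ?_⟩
  have hsc : sc (X i) = C (u i : R) * X i := by
    simp only [sc, AlgEquiv.ofAlgHom_apply, rescaleAlgHom_apply]
    rw [rescale_eq_subst, subst_X (HasSubst.smul_X a), Pi.smul_apply', smul_eq_C_mul]
  have hC : ψ (C (u i : R)) = C (u i : R) := by
    simpa [algebraMap_apply] using ψ.commutes (u i : R)
  rw [AlgEquiv.trans_apply, hsc, map_mul, hC, hψ, subst_X sN]
  simp only [N]
  have : C (u i : R) * C ((u i)⁻¹ : Rˣ).val = (1 : MvPowerSeries σ R) := by
    rw [← map_mul, Units.mul_inv, map_one]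
  linear_combination X i * U i * this

/-- A power series with constant coefficient one is a cube, in characteristic two. -/
theorem exists_pow_three_eq [CharP R 2] (W : MvPowerSeries σ R) (hW : constantCoeff W = 1) :
    ∃ w : MvPowerSeries σ R, w ^ 3 = W ∧ constantCoeff w = 1 := by
  let N : Fin 1 → MvPowerSeries (Fin 1) R := fun _ => X 0 ^ 2 + X 0 ^ 3
  have hN : ∀ i, 2 ≤ (N i).order := fun i => by
    refine le_trans (le_min ?_ ?_) min_order_le_add
    · simpa using le_order_pow_of_constantCoeff_eq_zero (f := (X 0 : MvPowerSeries (Fin 1) R)) 2 (by simp)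
    · exact le_trans (by norm_num)
        (le_order_pow_of_constantCoeff_eq_zero (f := (X 0 : MvPowerSeries (Fin 1) R)) 3 (by simp))
  obtain ⟨M, hM, hMN⟩ := exists_inverse_correction N hN
  have sM := hasSubst_of_constantCoeff_zero (constantCoeff_X_add hM)
  have ha : HasSubst (fun _ : Fin 1 => W - 1) :=
    hasSubst_of_constantCoeff_zero (fun _ => by simp [hW])
  set y := subst (fun _ : Fin 1 => W - 1) (X 0 + M 0) with hy
  have hz := congrArg (subst (fun _ : Fin 1 => W - 1)) (hMN 0)
  simp only [N, subst_add sM, subst_pow sM, subst_X sM, subst_add ha, subst_pow ha, subst_X ha] at hz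
  rw [← subst_X ha (R := R) (0 : Fin 1)] at hz
  have hy0 : constantCoeff y = 0 :=
    constantCoeff_subst_eq_zero ha (fun _ => by simp [hW]) (constantCoeff_X_add hM 0)
  refine ⟨1 + y, ?_, by simp [hy0]⟩
  have hyv : y + (y ^ 2 + y ^ 3) = W - 1 := by
    have := hz
    simpa [hy, subst_add ha, subst_X ha] using this
  have h2 : (2 : MvPowerSeries σ R) = 0 := by
    rw [← map_ofNat (C (σ := σ) (R := R)) 2, CharTwo.two_eq_zero, map_zero]
  linear_combination hyv + (y + y ^ 2) * h2

end KumFamPSLib
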