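import Mathlib.RingTheory.MvPowerSeries.Substitution
import Mathlib.RingTheory.MvPowerSeries.Order

/-! The formal inverse function theorem for `X + (terms of order at least two)`. -/

namespace KumFamPSLib

open MvPowerSeries

universe u v

variable {σ : Type v} {R : Type u} [CommRing R]

/-- `a - b` has order at least `k`. -/
def Cong (k : ℕ) (a b : MvPowerSeries σ R) : Prop := (k : ℕ∞) ≤ (a - b).order

theorem cong_iff {k : ℕ} {a b : MvPowerSeries σ R} :
    Cong k a b ↔ ∀ d : σ →₀ ℕ, Finsupp.degree d < k → coeff d a = coeff d b := by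
  constructor
  · intro h d hd
    have := coeff_of_lt_order (f := a - b) (lt_of_lt_of_le (by exact_mod_cast hd) h)
    simpa [sub_eq_zero] using this
  · exact fun h => nat_le_order fun d hd => by simp [h d hd]

theorem Cong.refl (k : ℕ) (a : MvPowerSeries σ R) : Cong k a a := cong_iff.mpr fun _ _ => rfl

theorem Cong.trans {k : ℕ} {a b c : MvPowerSeries σ R} (h : Cong k a b) (h' : Cong k b c) :
    Cong k a c :=
  cong_iff.mpr fun d hd => (cong_iff.mp h d hd).trans (cong_iff.mp h' d hd)

theorem Cong.mono {k l : ℕ} {a b : MvPowerSeries σ R} (h : Cong k a b) (hl : l ≤ k) : Cong l a b :=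
  le_trans (by exact_mod_cast hl) h

/-- The monomial `d` evaluated at `a`. -/
noncomputable def monProd (a : σ → MvPowerSeries σ R) (d : σ →₀ ℕ) : MvPowerSeries σ R :=
  d.prod fun s e => a s ^ e

theorem monProd_add (a : σ → MvPowerSeries σ R) (d d' : σ →₀ ℕ) :
    monProd a (d + d') = monProd a d * monProd a d' :=
  Finsupp.prod_add_index' (fun _ => pow_zero _) (fun _ _ _ => pow_add _ _ _)

theorem monProd_single (a : σ → MvPowerSeries σ R) (i : σ) :
    monProd a (Finsupp.single i 1) = a i := by
  simp [monProd]

theorem exists_split (d : σ →₀ ℕ) {n : ℕ} (h : Finsupp.degree d = n + 1) :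
    ∃ i d', d = Finsupp.single i 1 + d' ∧ Finsupp.degree d' = n := by
  obtain ⟨i, hi⟩ : ∃ i, d i ≠ 0 := by
    by_contra! hc
    rw [show d = 0 from Finsupp.ext hc, map_zero] at h
    omega
  refine ⟨i, d - Finsupp.single i 1, ?_, ?_⟩
  · exact (add_tsub_cancel_of_le (by simpa [Finsupp.single_le_iff] using Nat.one_le_iff_ne_zero.mpr hi)).symm
  · have hd := (add_tsub_cancel_of_le
      (show Finsupp.single i 1 ≤ d by simpa [Finsupp.single_le_iff] using Nat.one_le_iff_ne_zero.mpr hi))
    rw [← hd, map_add, Finsupp.degree_single] at h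
    omega

theorem le_order_monProd {a : σ → MvPowerSeries σ R} (ha : ∀ i, constantCoeff (a i) = 0) :
    ∀ (n : ℕ) (d : σ →₀ ℕ), Finsupp.degree d = n → (n : ℕ∞) ≤ (monProd a d).order := by
  intro n
  induction n with
  | zero => simp
  | succ n ih =>
    intro d hd
    obtain ⟨i, d', rfl, hd'⟩ := exists_split d hd
    rw [monProd_add]
    refine le_trans ?_ le_order_mul
    rw [monProd_single, Nat.cast_succ, add_comm]
    exact add_le_add (one_le_order_iff_constCoeff_eq_zero.mpr (ha i)) (ih d' hd')

theorem cong_monProd {a b : σ → MvPowerSeries σ R} {k : ℕ} (ha : ∀ i, constantCoeff (a i) = 0)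
    (hb : ∀ i, constantCoeff (b i) = 0) (h : ∀ i, Cong k (a i) (b i)) :
    ∀ (n : ℕ) (d : σ →₀ ℕ), Finsupp.degree d = n + 1 → Cong (k + n) (monProd a d) (monProd b d) := by
  intro n
  induction n with
  | zero =>
    intro d hd
    obtain ⟨i, d', rfl, hd'⟩ := exists_split d hd
    rw [(Finsupp.degree_eq_zero_iff d').mp hd']
    simpa [monProd] using h i
  | succ n ih =>
    intro d hd
    obtain ⟨i, d', rfl, hd'⟩ := exists_split d hd
    rw [monProd_add, monProd_add, Cong, monProd_single, monProd_single]
    rw [show a i * monProd a d' - b i * monProd b d' =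
      (a i - b i) * monProd a d' + b i * (monProd a d' - monProd b d') by ring]
    refine le_trans (le_min ?_ ?_) min_order_le_add <;> refine le_trans ?_ le_order_mul
    · rw [Nat.cast_add, Nat.cast_succ]
      exact add_le_add (h i) (le_order_monProd ha (n + 1) d' hd')
    · rw [show ((k + (n + 1) : ℕ) : ℕ∞) = 1 + ((k + n : ℕ) : ℕ∞) by push_cast; ring]
      exact add_le_add (one_le_order_iff_constCoeff_eq_zero.mpr (hb i)) (ih d' hd')

variable [Finite σ]

theorem cong_subst {a b : σ → MvPowerSeries σ R} {k : ℕ} (ha : ∀ i, constantCoeff (a i) = 0)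
    (hb : ∀ i, constantCoeff (b i) = 0) (h : ∀ i, Cong k (a i) (b i))
    {f : MvPowerSeries σ R} (hf : 2 ≤ f.order) : Cong (k + 1) (subst a f) (subst b f) := by
  rw [cong_iff]
  intro e he
  rw [coeff_subst (hasSubst_of_constantCoeff_zero ha), coeff_subst (hasSubst_of_constantCoeff_zero hb)]
  refine finsum_congr fun d => ?_
  rcases lt_or_ge (Finsupp.degree d) 2 with hd | hd
  · rw [coeff_of_lt_order (lt_of_lt_of_le (by exact_mod_cast hd) hf), zero_smul, zero_smul]
  · obtain ⟨n, hn⟩ : ∃ n, Finsupp.degree d = n + 1 + 1 := ⟨Finsupp.degree d - 2, by omega⟩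
    rw [show coeff e (d.prod fun s m => a s ^ m) = coeff e (d.prod fun s m => b s ^ m) from
      cong_iff.mp (cong_monProd ha hb h (n + 1) d hn) e (by omega)]

theorem le_order_subst' {a : σ → MvPowerSeries σ R} (ha : ∀ i, constantCoeff (a i) = 0)
    {f : MvPowerSeries σ R} (hf : 2 ≤ f.order) : 2 ≤ (subst a f).order := by
  refine nat_le_order (n := 2) fun e he => ?_
  rw [coeff_subst (hasSubst_of_constantCoeff_zero ha), finsum_eq_zero_of_forall_eq_zero]
  intro d
  rcases lt_or_ge (Finsupp.degree d) 2 with hd | hd
  · rw [coeff_of_lt_order (lt_of_lt_of_le (by exact_mod_cast hd) hf), zero_smul]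
  · rw [show coeff e (d.prod fun s m => a s ^ m) = 0 from coeff_of_lt_order
      (lt_of_lt_of_le (by exact_mod_cast lt_of_lt_of_le he hd) (le_order_monProd ha _ d rfl)), smul_zero]

theorem constantCoeff_eq_zero_of_two_le {f : MvPowerSeries σ R} (hf : 2 ≤ f.order) :
    constantCoeff f = 0 :=
  one_le_order_iff_constCoeff_eq_zero.mp (le_trans (by norm_num) hf)

theorem constantCoeff_X_add {N : σ → MvPowerSeries σ R} (hN : ∀ i, 2 ≤ (N i).order) (i : σ) :
    constantCoeff (X i + N i) = 0 := by
  simp [constantCoeff_eq_zero_of_two_le (hN i)]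

/-- A compositional right inverse of `X + N`. -/
theorem exists_inverse_correction (N : σ → MvPowerSeries σ R) (hN : ∀ i, 2 ≤ (N i).order) :
    ∃ M : σ → MvPowerSeries σ R, (∀ i, 2 ≤ (M i).order) ∧
      ∀ i, subst (fun j => X j + M j) (X i + N i) = X i := by
  let T : (σ → MvPowerSeries σ R) → σ → MvPowerSeries σ R :=
    fun G i => - subst (fun j => X j + G j) (N i)
  let M' : ℕ → σ → MvPowerSeries σ R := fun n => T^[n] 0
  have hsucc : ∀ n i, M' (n + 1) i = - subst (fun j => X j + M' n j) (N i) := fun n i => by
    simp only [M', Function.iterate_succ_apply']; rfl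
  have hord : ∀ n i, 2 ≤ (M' n i).order := by
    intro n
    induction n with
    | zero => intro i; simp [M', order_zero]
    | succ n ih =>
      intro i
      rw [hsucc, order_neg]
      exact le_order_subst' (constantCoeff_X_add ih) (hN i)
  have hstep : ∀ n i, Cong (n + 2) (M' (n + 1) i) (M' n i) := by
    intro n
    induction n with
    | zero => intro i; simpa [Cong, M'] using hord 1 i
    | succ n ih =>
      intro i
      have := cong_subst (k := n + 2) (constantCoeff_X_add (hord (n + 1)))
        (constantCoeff_X_add (hord n)) (fun j => by simpa [Cong] using ih j) (hN i)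
      rw [cong_iff] at this ⊢
      intro d hd
      rw [hsucc, hsucc]
      simp only [map_neg, this d hd]
  have hstab : ∀ n m, n ≤ m → ∀ i, Cong (n + 2) (M' m i) (M' n i) := by
    intro n m hnm
    induction m, hnm using Nat.le_induction with
    | base => exact fun i => Cong.refl _ _
    | succ m hm ih => exact fun i => ((hstep m i).mono (by omega)).trans (ih i)
  let M : σ → MvPowerSeries σ R := fun i d => coeff d (M' (Finsupp.degree d) i)
  have hM : ∀ n i, Cong (n + 2) (M i) (M' n i) := by
    intro n i
    rw [cong_iff]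
    intro d hd
    show coeff d (M' (Finsupp.degree d) i) = _
    rcases le_total n (Finsupp.degree d) with h | h
    · exact cong_iff.mp (hstab _ _ h i) d hd
    · exact (cong_iff.mp (hstab _ _ h i) d (by omega)).symm
  have hMord : ∀ i, 2 ≤ (M i).order := fun i => nat_le_order fun d hd => by
    rw [cong_iff.mp (hM 0 i) d hd]
    simp [M']
  refine ⟨M, hMord, fun i => ?_⟩
  have hs := hasSubst_of_constantCoeff_zero (constantCoeff_X_add hMord)
  rw [subst_add hs, subst_X hs, add_assoc]
  suffices M i + subst (fun j => X j + M j) (N i) = 0 by rw [this, add_zero]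
  ext d
  set n := Finsupp.degree d with hn
  have h1 := cong_iff.mp (cong_subst (k := n + 2) (constantCoeff_X_add hMord)
    (constantCoeff_X_add (hord n)) (fun j => by simpa [Cong] using hM n j) (hN i)) d (by omega)
  have h2 := cong_iff.mp (hM (n + 1) i) d (by omega)
  rw [map_add, h1, h2, hsucc]
  simp

/-- Formal inverse function theorem: `X ↦ X + N` is an automorphism. -/
theorem exists_algEquiv_X_add (N : σ → MvPowerSeries σ R) (hN : ∀ i, 2 ≤ (N i).order) :
    ∃ φ : MvPowerSeries σ R ≃ₐ[R] MvPowerSeries σ R,
      ∀ f, φ f = subst (fun j => X j + N j) f := by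
  obtain ⟨M, hM, hMN⟩ := exists_inverse_correction N hN
  obtain ⟨N', hN', hNM⟩ := exists_inverse_correction M hM
  have sN := hasSubst_of_constantCoeff_zero (constantCoeff_X_add hN)
  have sM := hasSubst_of_constantCoeff_zero (constantCoeff_X_add hM)
  have sN' := hasSubst_of_constantCoeff_zero (constantCoeff_X_add hN')
  have left : ∀ f : MvPowerSeries σ R,
      subst (fun j => X j + M j) (subst (fun j => X j + N j) f) = f := fun f => by
    rw [subst_comp_subst_apply sN sM, funext hMN, subst_self, id]
  have left' : ∀ f : MvPowerSeries σ R,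
      subst (fun j => X j + N' j) (subst (fun j => X j + M j) f) = f := fun f => by
    rw [subst_comp_subst_apply sM sN', funext hNM, subst_self, id]
  have right : ∀ f : MvPowerSeries σ R,
      subst (fun j => X j + N j) (subst (fun j => X j + M j) f) = f := fun f => by
    conv_lhs => rw [← left' (subst (fun j => X j + N j) (subst (fun j => X j + M j) f)), left]
    exact left' f
  refine ⟨AlgEquiv.ofAlgHom (substAlgHom sN) (substAlgHom sM) ?_ ?_, fun f => ?_⟩
  · exact AlgHom.ext fun f => by simpa [coe_substAlgHom] using right f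
  · exact AlgHom.ext fun f => by simpa [coe_substAlgHom] using left f
  · simp [coe_substAlgHom]

end KumFamPSLib
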